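import Cfsg.Agent.Lib.Psp43.Fm

/-! Facts about the centraliser of a 2-central involution of `PSp₄(3)`. -/

set_option autoImplicit false

namespace Cfsg.Lib.Psp43

open Cfsg.Lib.FO Subgroup

variable {G : Type*} [Group G]

def X (a c d f s : G) : Prop := s = a ∨ s = c ∨ s = d ∨ s = f

structure Cf (t a b c d f w q r δ : G) : Prop where
  t1 : t ≠ 1
  t2 : t * t = 1
  hf : f = b * a * c * b * d * b * c * a * b
  ht : t = a * c * d * f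
  hδ : δ = a * b
  a2 : a * a = 1
  b2 : b * b = 1
  c2 : c * c = 1
  d2 : d * d = 1
  ab : a * b * (a * b) * (a * b) = 1
  cb : b * c * (b * c) * (b * c) = 1
  db : b * d * (b * d) * (b * d) = 1
  fb : b * f * (b * f) * (b * f) = 1
  qa : q * a * q⁻¹ = c
  qc : q * c * q⁻¹ = a
  qd : q * d * q⁻¹ = f
  qf : q * f * q⁻¹ = d
  wa : w * a * w⁻¹ = a
  wc : w * c * w⁻¹ = d
  wd : w * d * w⁻¹ = f
  wf : w * f * w⁻¹ = c
  w3 : w * w * w = 1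
  w1 : w ≠ 1
  wδ : w * δ = δ * w
  aδ : a * δ * a⁻¹ = δ⁻¹
  δa : δ * a * δ⁻¹ = b
  cH : Nat.card (gen [a, b, c, d, w]) = 576
  cE : Nat.card (gen [a, c, d, f]) = 16
  cS : Nat.card (gen [a, c, d, f, q, r]) = 64
  cH1 : Nat.card (gen [a * c, q, r, δ, w]) = 288
  H1 : ∀ g ∈ gen [a * c, q, r, δ, w], g ∈ gen [a, b, c, d, w]
  hB : ∀ g ∈ gen [q, r, w], g ∈ gen [a, b, c, d, w] ∧ g * a * g⁻¹ ∈ gen [a, c, d, f] ∧
    g * c * g⁻¹ ∈ gen [a, c, d, f] ∧ g * d * g⁻¹ ∈ gen [a, c, d, f] ∧ g * f * g⁻¹ ∈ gen [a, c, d, f]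
  hE : ∀ e ∈ gen [a, c, d, f], e * e = 1 ∧
    (e = 1 ∨ e = t ∨ ∃ g ∈ gen [q, r, w], g * a * g⁻¹ = e ∨ g * (a * t) * g⁻¹ = e ∨ g * (a * c) * g⁻¹ = e) ∧
    ((e = t ∨ X a c d f e) → (e * (t * a) = t ∨ X a c d f (e * (t * a))) → e = t ∨ e = a)
  hS : ∀ s ∈ gen [a, c, d, f, q, r], s ∈ gen [a, b, c, d, w] ∧
    (s * q = q * s → s * r = r * s → s * a = a * s → s = 1 ∨ s = t) ∧
    (s * s = 1 → s ∉ gen [a, c, d, f] →
      {x | x ∈ gen [a, c, d, f, q, r] ∧ x * x = 1 ∧ x * s = s * x}.ncard = 12)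
  hH : ∀ g ∈ gen [a, b, c, d, w], g * t = t * g ∧
    (g * g = 1 → (g ∈ gen [a, c, d, f] ∨ δ * g * δ⁻¹ ∈ gen [a, c, d, f] ∨ δ⁻¹ * g * δ ∈ gen [a, c, d, f]) ∧
      (X a c d f (δ * g * δ⁻¹) ∨ X a c d f (δ⁻¹ * g * δ) → g * a * g⁻¹ ∉ gen [a, c, d, f])) ∧
    (g * a * g⁻¹ ∈ gen [a, c, d, f] → X a c d f (g * a * g⁻¹)) ∧
    (g * c * g⁻¹ ∈ gen [a, c, d, f] → X a c d f (g * c * g⁻¹)) ∧
    (g * d * g⁻¹ ∈ gen [a, c, d, f] → X a c d f (g * d * g⁻¹)) ∧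
    (g * f * g⁻¹ ∈ gen [a, c, d, f] → X a c d f (g * f * g⁻¹)) ∧
    ((g * a * g⁻¹ = a ∧ (g * c * g⁻¹ = c ∨ g * d * g⁻¹ = d ∨ g * f * g⁻¹ = f)) ∨
      (g * c * g⁻¹ = c ∧ (g * d * g⁻¹ = d ∨ g * f * g⁻¹ = f)) ∨ (g * d * g⁻¹ = d ∧ g * f * g⁻¹ = f) →
      g ∈ gen [a, c, d, f]) ∧
    (g * a * g⁻¹ = a → (g * g = 1 → g ∈ gen [a, c, d, f]) ∧
      (g * w = w * g → (g = 1 ∨ g = t ∨ g = a ∨ g = t * a) ∨ (g * w = 1 ∨ g * w = t ∨ g * w = a ∨ g * w = t * a) ∨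
        (g * w⁻¹ = 1 ∨ g * w⁻¹ = t ∨ g * w⁻¹ = a ∨ g * w⁻¹ = t * a)) ∧
      (g * g * g = 1 → g = 1 ∨ ∃ e ∈ gen [a, c, d, f], e * g * e⁻¹ = w ∨ e * g * e⁻¹ = w⁻¹)) ∧
    (g * g * g * (g * g * g) * (g * g * g) = 1 → g = 1 ∨ ∃ e ∈ gen [a, c, d, f],
      (fun z => z * z * z * (z * z * z) * (z * z * z) ≠ 1) (g⁻¹ * (e * g * e⁻¹)))

open Fm in
def fX (a c d f s : Tm) : Fm := ors [eq s a, eq s c, eq s d, eq s f]

open Fm in
def fV (t a s : Tm) : Fm := ors [eq s 1, eq s t, eq s a, eq s (t * a)]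

def p3 (x : Tm) : Tm := x * x * x

def gss (_t a b c d f w q r δ : Tm) : List (List Tm) :=
  [[a, b, c, d, w], [a, c, d, f], [a, c, d, f, q, r], [a * c, q, r, δ, w], [q, r, w]]

open Fm Tm in
def FF (t a b c d f w q r δ : Tm) : Fm := ands [ne t 1, eq (t * t) 1, eq f (b * a * c * b * d * b * c * a * b),
  eq t (a * c * d * f), eq δ (a * b), eq (a * a) 1, eq (b * b) 1, eq (c * c) 1, eq (d * d) 1,
  eq (p3 (a * b)) 1, eq (p3 (b * c)) 1, eq (p3 (b * d)) 1, eq (p3 (b * f)) 1,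
  eq (cj q a) c, eq (cj q c) a, eq (cj q d) f, eq (cj q f) d, eq (cj w a) a, eq (cj w c) d, eq (cj w d) f,
  eq (cj w f) c, eq (p3 w) 1, ne w 1, cm w δ, eq (cj a δ) δ⁻¹, eq (cj δ a) b,
  card 0 576, card 1 16, card 2 64, card 3 288, all 3 (mem (v 0) 0),
  all 4 (ands [mem (v 0) 0, mem (cj (v 0) a) 1, mem (cj (v 0) c) 1, mem (cj (v 0) d) 1, mem (cj (v 0) f) 1]),
  all 1 (ands [eq (v 0 * v 0) 1, ors [eq (v 0) 1, eq (v 0) t,
      ex 4 (ors [eq (cj (v 0) a) (v 1), eq (cj (v 0) (a * t)) (v 1), eq (cj (v 0) (a * c)) (v 1)])],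
    imp (or (eq (v 0) t) (fX a c d f (v 0))) (lt (v 0 * (t * a)) (imp (or (eq (v 0) t) (fX a c d f (v 0)))
      (or (eq (v 1) t) (eq (v 1) a))))]),
  all 2 (ands [mem (v 0) 0, imp (cm (v 0) q) (imp (cm (v 0) r) (imp (cm (v 0) a) (or (eq (v 0) 1) (eq (v 0) t)))),
    imp (eq (v 0 * v 0) 1) (imp (not (mem (v 0) 1)) (cnt 2 (and (eq (v 0 * v 0) 1) (cm (v 0) (v 1))) 12))]),
  all 0 (lt (v 0)⁻¹ (lt (v 1 * a * v 0) (lt (v 2 * c * v 1) (lt (v 3 * d * v 2) (lt (v 4 * f * v 3)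
    (lt (v 5 * v 5) (ands [cm (v 6) t,
      imp (eq (v 0) 1) (lt (cj δ (v 6)) (lt (δ⁻¹ * v 7 * δ) (and (ors [mem (v 8) 1, mem (v 1) 1, mem (v 0) 1])
        (imp (or (fX a c d f (v 1)) (fX a c d f (v 0))) (not (mem (v 6) 1)))))),
      imp (mem (v 4) 1) (fX a c d f (v 4)), imp (mem (v 3) 1) (fX a c d f (v 3)),
      imp (mem (v 2) 1) (fX a c d f (v 2)), imp (mem (v 1) 1) (fX a c d f (v 1)),
      imp (ors [and (eq (v 4) a) (ors [eq (v 3) c, eq (v 2) d, eq (v 1) f]),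
        and (eq (v 3) c) (ors [eq (v 2) d, eq (v 1) f]), and (eq (v 2) d) (eq (v 1) f)]) (mem (v 6) 1),
      imp (eq (v 4) a) (ands [imp (eq (v 0) 1) (mem (v 6) 1),
        imp (cm (v 6) w) (ors [fV t a (v 6), fV t a (v 6 * w), fV t a (v 6 * w⁻¹)]),
        imp (eq (v 0 * v 6) 1) (or (eq (v 6) 1) (ex 1 (or (eq (cj (v 0) (v 7)) w) (eq (cj (v 0) (v 7)) w⁻¹))))]),
      lt (v 0 * v 6) (imp (eq (p3 (v 0)) 1) (or (eq (v 7) 1)
        (ex 1 (lt (v 7 * cj (v 0) (v 8)) (lt (p3 (v 0)) (ne (p3 (v 0)) 1))))))])))))))]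

theorem cf_of {C : ℕ → G} {t a b c d f w q r δ : ℕ}
    (h : (FF (.c t) (.c a) (.c b) (.c c) (.c d) (.c f) (.c w) (.c q) (.c r) (.c δ)).P C
      ((gss (.c t) (.c a) (.c b) (.c c) (.c d) (.c f) (.c w) (.c q) (.c r) (.c δ)).map
        fun gs => gen (gs.map (Tm.ev C []))) []) :
    Cf (C t) (C a) (C b) (C c) (C d) (C f) (C w) (C q) (C r) (C δ) := by
  obtain ⟨h1, h2, h3, h4, h5, h6, h7, h8, h9, h10, h11, h12, h13, h14, h15, h16, h17, h18, h19, h20, h21, h22, h23,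
    h24, h25, h26, h27, h28, h29, h30, h31, h32, h33, h34, h35⟩ := h
  exact ⟨h1, h2, h3, h4, h5, h6, h7, h8, h9, h10, h11, h12, h13, h14, h15, h16, h17, h18, h19, h20, h21, h22, h23,
    h24, h25, h26, h27, h28, h29, h30, h31, h32, h33, h34, h35⟩

def cs : List ℕ := [nat_lit 0x191a0e0d100f13140b0c161518171112090a050403080706020100,
  nat_lit 0x191a111204051314171807080c0b0e0d0a090f1003151606010200,
  nat_lit 0xc110e130a0f0d170b19091518141a121610060708030405000102,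
  nat_lit 0x191a08070b0c1413100f121105041516090a1817030e0d06010200,
  nat_lit 0x1a1916151817131405040e0d100f0708090a0b0c03121106010200,
  nat_lit 0x191a17181516131411120f100d0e0b0c090a070806040503010200,
  nat_lit 0x603150c160b191a0e0510120f1108180a091707130d0414020100,
  nat_lit 0x306041105120a090f0d080b070c1715131416181a100e19020100,
  nat_lit 0x90a0b160d040306180817071210050e1a190c1514110f13020100,
  nat_lit 0xe180c140a080b120d1a090511131917040703100f061615000201,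
  nat_lit 0x1a190c0b070814130d0e040511121817090a1516060f1003010200,
  nat_lit 0x110c18140915170d121a0a0f0e13190b1016030405060708000102,
  nat_lit 0x1a1905041211131416150b0c08070f100a090e0d06181703010200,
  nat_lit 0x191a100f0e0d141308071817161504050a091211060b0c03010200,
  nat_lit 0x1a190d0e0f1014130c0b1516171812110a09040503070806010200]

theorem chk1 : chk 27 1021 10 10 cs
    (gss (.c 0) (.c 1) (.c 2) (.c 3) (.c 4) (.c 5) (.c 6) (.c 7) (.c 8) (.c 9))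
    (FF (.c 0) (.c 1) (.c 2) (.c 3) (.c 4) (.c 5) (.c 6) (.c 7) (.c 8) (.c 9)) = true := by decide +kernel

theorem chk2 : chk 27 1021 10 10 cs
    (gss (.c 0) (.c 10) (.c 11) (.c 12) (.c 13) (.c 14) (.c 6) (.c 7) (.c 8) (.c 9))
    (FF (.c 0) (.c 10) (.c 11) (.c 12) (.c 13) (.c 14) (.c 6) (.c 7) (.c 8) (.c 9)) = true := by decide +kernel

end Cfsg.Lib.Psp43
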